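import Groth.Agent.Lib.Filt24.Main
import Groth.Agent.Lib.GaCoh3.AS
import Groth.Agent.Lib.GaCoh3.Vanish
import Groth.Agent.Lib.FieldH25.Transfer
import Groth.Agent.Lib.TorsorRep24.Main

/-!
# Locally constant `p`-torsion sheaves on affine schemes of characteristic `p`
-/

set_option autoImplicit false
set_option linter.style.haveILetI false
set_option backward.isDefEq.respectTransparency.types false

universe u

open CategoryTheory CategoryTheory.Limits AlgebraicGeometry Opposite CategoryTheory.Abelian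

namespace Groth.Agent.KPiP24

variable {X : Scheme.{u}}

theorem subsingleton_middle {S : ShortComplex (EtCoh.Ab X)} (hS : S.ShortExact) (q : ℕ)
    (h₁ : Subsingleton (EtCoh.H X S.X₁ q)) (h₃ : Subsingleton (EtCoh.H X S.X₃ q)) :
    Subsingleton (EtCoh.H X S.X₂ q) := by
  refine subsingleton_of_forall_eq 0 fun y => ?_
  obtain ⟨x, rfl⟩ := Ext.covariant_sequence_exact₂ _ hS y (h₃.elim _ _)
  rw [h₁.elim x 0, Ext.zero_comp]

theorem subsingleton_of_isZero {F : EtCoh.Ab X} (h : IsZero F) (q : ℕ) : Subsingleton (EtCoh.H X F q) := by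
  refine subsingleton_of_forall_eq 0 fun y => ?_
  rw [← Ext.comp_mk₀_id y, h.eq_of_src (𝟙 F) 0, Ext.mk₀_zero, Ext.comp_zero]

theorem subsingleton_of_iso {F G : EtCoh.Ab X} (e : F ≅ G) (q : ℕ) (h : Subsingleton (EtCoh.H X F q)) :
    Subsingleton (EtCoh.H X G q) := by
  refine subsingleton_of_forall_eq 0 fun y => FieldH25.eq_zero_of_comp_iso y e.symm (h.elim _ _)

theorem subsingleton_of_filt {K G : EtCoh.Ab X} (h : Filt24.Filt K G) (q : ℕ)
    (hK : Subsingleton (EtCoh.H X K q)) : Subsingleton (EtCoh.H X G q) := by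
  induction h with
  | zero hz => exact subsingleton_of_isZero hz q
  | @step A G φ hm hA hc ih =>
    haveI := hm
    obtain ⟨c⟩ := hc
    exact subsingleton_middle (S := ShortComplex.mk φ (cokernel.π φ) (cokernel.condition φ))
      { exact := ShortComplex.exact_cokernel φ } q ih (subsingleton_of_iso c.symm q hK)

theorem finrank_eq_of_hasDeg {T : Scheme.{u}} (f : T ⟶ X) [IsFinite f] [AlgebraicGeometry.Etale f] {d : ℕ}
    (hd : Filt24.HasDeg f d) (x : X) : f.finrank x = d := by
  have key : ∀ (Ω : Type u) [Field Ω] [IsAlgClosed Ω] (η : Spec (CommRingCat.of Ω) ⟶ X),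
      f.finrank (Weight.pt η) = d := fun Ω _ _ η => (ExtShriek24.card_lifts_eq_finrank f η).symm.trans (hd Ω η)
  have e := key (AlgebraicClosure (X.residueField x)) (Weight.fieldPt x
    (CommRingCat.ofHom (algebraMap (X.residueField x) (AlgebraicClosure (X.residueField x)))))
  rwa [Weight.pt_fieldPt] at e

variable [IsAffine X] [ConnectedSpace X] (p : ℕ) [Fact p.Prime]

theorem subsingleton_H_killed (h0 : (p : Γ(X, ⊤)) = 0) {F : EtCoh.Ab X}
    (hF : EtCoh.IsFiniteLocallyConstant F) (hp : p • 𝟙 F = 0) (q : ℕ) (hq : 2 ≤ q) :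
    Subsingleton (EtCoh.H X F q) := by
  obtain ⟨N, hN⟩ := Filt24.exists_card_eq hF
  obtain ⟨T, f, d, hf, he, hd, hdeg, hfilt⟩ := Filt24.exists_cover_filt N X F hF hp hN
  haveI := hf; haveI := he
  haveI : IsAffine T := isAffine_of_isAffineHom f
  have h0T : (p : Γ(T, ⊤)) = 0 := by rw [← map_natCast f.appTop.hom p, h0, map_zero]
  obtain ⟨n, rfl⟩ : ∃ n, q = n + 1 := ⟨q - 1, by omega⟩
  have hT := subsingleton_of_filt hfilt (n + 1) (GaCoh3.subsingleton_H_zmod p h0T
    (GaCoh3.subsingleton_H_Ga _ (by omega)) (GaCoh3.subsingleton_H_Ga _ (by omega)))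
  refine subsingleton_of_forall_eq 0 fun x => ?_
  haveI : PreservesFiniteLimits (EtCoh.pull f) := EtStalk.preservesFiniteLimits_pull _
  have h1 : d • x = 0 := FieldH25.nsmul_eq_zero_of_Hpull_eq_zero f d (finrank_eq_of_hasDeg f hdeg) F (n + 1) x
    (hT.elim _ _)
  have h2 : p • x = 0 := by
    rw [← FieldH25.H_map_nsmul_id F p (n + 1) x, hp]
    show x.comp (Ext.mk₀ 0) (add_zero _) = 0
    rw [Ext.mk₀_zero, Ext.comp_zero]
  exact AddMonoid.addOrderOf_eq_one_iff.1 (Nat.eq_one_of_dvd_coprimes hd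
    (addOrderOf_dvd_of_nsmul_eq_zero h2) (addOrderOf_dvd_of_nsmul_eq_zero h1))

theorem subsingleton_H_pow (h0 : (p : Γ(X, ⊤)) = 0) (h : ℕ) : ∀ {F : EtCoh.Ab X},
    EtCoh.IsFiniteLocallyConstant F → (p ^ h) • 𝟙 F = 0 → ∀ q : ℕ, 2 ≤ q → Subsingleton (EtCoh.H X F q) := by
  induction h with
  | zero =>
    intro F _ hF q _
    exact subsingleton_of_isZero ((IsZero.iff_id_eq_zero F).2 (by rw [← hF, pow_zero, one_nsmul])) q
  | succ h ih =>
    intro F hF hp q hq
    let φ : F ⟶ F := p • 𝟙 F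
    have hA : EtCoh.IsFiniteLocallyConstant (kernel φ) := LocConst24.flc_kernel φ hF hF
    have hAp : p • 𝟙 (kernel φ) = 0 := by
      rw [← cancel_mono (kernel.ι φ), zero_comp, Preadditive.nsmul_comp, Category.id_comp]
      have := kernel.condition φ
      rwa [Preadditive.comp_nsmul, Category.comp_id] at this
    have hQ := LocConst24.flc_cokernel (kernel.ι φ) hA hF
    have hQp : (p ^ h) • 𝟙 (cokernel (kernel.ι φ)) = 0 := by
      have hl : ((p ^ h) • 𝟙 F) ≫ φ = 0 := by
        rw [Preadditive.nsmul_comp, Category.id_comp, ← mul_nsmul', ← pow_succ]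
        exact hp
      rw [← cancel_epi (cokernel.π (kernel.ι φ)), comp_zero, Preadditive.comp_nsmul, Category.comp_id]
      calc (p ^ h) • cokernel.π (kernel.ι φ) = (kernel.lift φ _ hl ≫ kernel.ι φ) ≫ cokernel.π (kernel.ι φ) := by
            rw [kernel.lift_ι, Preadditive.nsmul_comp, Category.id_comp]
        _ = 0 := by rw [Category.assoc, cokernel.condition, comp_zero]
    exact subsingleton_middle (S := ShortComplex.mk (kernel.ι φ) (cokernel.π (kernel.ι φ)) (cokernel.condition _))
      { exact := ShortComplex.exact_cokernel _ } q (subsingleton_H_killed p h0 hA hAp q hq) (ih hQ hQp q hq)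

end Groth.Agent.KPiP24
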